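import Cfsg.Agent.SPU.Defs
import Cfsg.Agent.UM.GN
import Cfsg.Agent.UM.AP1

/-!
# Unitary overgroups of `Sp_{2k}(2ⁿ)`: generation of stabilisers by transvections
-/

set_option autoImplicit false
set_option linter.unusedSectionVars false
set_option linter.unusedVariables false

namespace Cfsg.Lib.SPU

open Subgroup Module Cfsg.Lib.Trans Cfsg.Lib.Gold Cfsg.Lib.Class.Form Cfsg.Lib.Class.FAut
open Cfsg.Lib.UM (tT tE I2 I3 Fx Semi Mp Ot sg kk qn)
open Cfsg.Lib.SPN (P2 P3 O3 G1 G2 T1 T3)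
open scoped commutatorElement

variable {G F M K N N' : Type*} [Group G] [Finite G] [Field F] [Finite F] [AddCommGroup M]
  [Module F M] [FiniteDimensional F M] [Field K] [Finite K] [AddCommGroup N] [Module K N]
  [FiniteDimensional K N] [AddCommGroup N'] [Module K N'] [FiniteDimensional K N'] {σ : K →+* K}
  {B : M →ₗ[F] M →ₗ[F] F} {Bh : N →ₛₗ[σ] N →ₗ[K] K} {Bh' : N' →ₛₗ[σ] N' →ₗ[K] K}
  {ρ : F →+* K} {β : F} {γ : K} {j : M →+ N} {v : N} {v' : N'} {ι : sIsom B →* sIsom Bh}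
  {ι' : sIsom Bh →* sIsom Bh'} {i : N →ₗ[K] N'} {φ : sIsom B →* G} {t : G} {H : M → M → G}
  {ψ : sIsom Bh →* G}

theorem GEN.T_mem (m : UM.Mo Bh) {A : Subgroup (sIsom Bh)} {x : N} (hx : Bh x x = 0)
    (k : ∀ a : K, tT Bh (a • x) 1 ∈ A) {c : K} (hc : σ c = c) : tT Bh x c ∈ A := by
  obtain ⟨a, -, e⟩ := m.tT_nm hx hc
  exact e ▸ k a

theorem genN (m : UM.Mo Bh) {U : Submodule K N} (hU : NondegOn Bh U) (h4 : 4 ≤ finrank K U)
    {A : Subgroup (sIsom Bh)} (k : ∀ x ∈ U, Bh x x = 0 → tT Bh x 1 ∈ A) :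
    Fx Bh (orth Bh U) ≤ A := fun g hg => by
  have hs : g.1 ∈ stab Bh U := m.toGood.mem_stab_orth_iff.1
    (mem_stab_of_forall_mem fun y hy => (hg y hy).symm ▸ hy)
  have e : g.1 = m.toGood.glue hU (stabRestrict Bh U ⟨_, hs⟩, 1) :=
    Subtype.ext (m.toGood.ext_of_nondegOn hU
      (fun x hx => (m.toGood.glue_apply_left hU (stabRestrict Bh U ⟨_, hs⟩, 1) ⟨x, hx⟩).symm)
      fun x hx => (hg x hx).trans
        (m.toGood.glue_apply_right hU (stabRestrict Bh U ⟨_, hs⟩, 1) ⟨x, hx⟩).symm)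
  have hd := mem_sIsom.1 g.2
  rw [e, Good.det_glue] at hd
  have h1 : stabRestrict Bh U ⟨_, hs⟩ ∈ sIsom (restr Bh U) :=
    (mul_one _).symm.trans ((congrArg (_ * ·) (map_one _).symm).trans hd)
  have h2 : (⊤ : Subgroup (sIsom (restr Bh U))) ≤ (UM.GN.res A U).subgroupOf _ := by
    rw [← (m.toHerm.restrict hU).closure_isTransv_eq_top (by omega), closure_le]
    rintro s ⟨x, c, hx, hs⟩
    by_cases x0 : x = 0
    · refine ⟨1, one_mem _, fun y => ?_, fun _ _ => rfl⟩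
      refine Eq.trans ?_ (congrArg Subtype.val (hs y)).symm
      rw [x0, smul_zero, add_zero]
      rfl
    have hc := (UM.AP1.cls (m.toHerm.restrict hU)).coeff_of_isT x0 hx (g := s) hs
    have hc' : σ c = c := by linear_combination hc - c * m.two
    have hx' : Bh x x = 0 := hx
    refine ⟨tT Bh x c, GEN.T_mem m hx' (fun a => k _ (U.smul_mem a x.2) (by simp [hx'])) hc',
      fun y => ?_, fun y hy => ?_⟩
    · rw [m.lin_tT hx' hc']
      exact (congrArg Subtype.val (hs y)).symm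
    · rw [m.lin_tT hx' hc', mem_orth.1 hy x x.2, mul_zero, zero_smul, add_zero]
  obtain ⟨a, ha, a1, a2⟩ := h2 (mem_top ⟨_, h1⟩)
  rwa [show g = a from Subtype.ext (Subtype.ext (m.toGood.ext_of_nondegOn hU
    (fun x hx => (a1 ⟨x, hx⟩).symm) fun x hx => (hg x hx).trans (a2 x hx).symm))]

theorem iso2 (m : UM.Mo Bh) {p a b : N} (hp : p ∉ Submodule.span K {a, b}) :
    ∃ z, Bh z z = 0 ∧ Bh a z = 0 ∧ Bh b z = 0 ∧ Bh p z = 1 := by
  classical
  have h2 : finrank K (Submodule.span K {a, b}) ≤ 2 :=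
    (finrank_span_le_card _).trans (by simpa using Finset.card_le_two)
  obtain ⟨z, hz, z0, zp⟩ : ∃ z ∈ orth Bh (Submodule.span K {a, b}), Bh z z = 0 ∧ Bh p z ≠ 0 := by
    generalize Submodule.span K {a, b} = S at hp h2
    by_contra hc
    push Not at hc
    obtain ⟨W, d, e⟩ := IsModularLattice.exists_disjoint_and_sup_eq
      (inf_le_left : orth Bh S ⊓ S ≤ _)
    have hW : W ≤ orth Bh S := le_sup_right.trans e.le
    have h3 : NondegOn Bh W := fun u hu k => Submodule.disjoint_def.1 d u ⟨hW hu, by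
      rw [← m.toGood.orth_orth S, ← e, orth_sup]
      exact ⟨fun r hr => hW hu r hr.2, m.toGood.mem_orth'.2 k⟩⟩ hu
    have h4 := m.toGood.finrank_orth S
    have h5 := Submodule.finrank_add_le_finrank_add_finrank (orth Bh S ⊓ S) W
    have h6 := Submodule.finrank_mono (inf_le_right : orth Bh S ⊓ S ≤ _)
    have h7 := m.six
    rw [e] at h5
    have h8 := m.toHerm.le_of_isotropic h3 (by omega) (T := LinearMap.ker (Bh p))
      fun x hx => hc x (hW hx)
    refine hp (m.toGood.orth_orth S ▸ m.toGood.mem_orth'.2 ?_)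
    have h9 : orth Bh S ⊓ S ⊔ W ≤ LinearMap.ker (Bh p) :=
      sup_le (fun r hr => hc r hr.1 (hr.1 r hr.2)) h8
    exact e.ge.trans h9
  rw [mem_orth_span] at hz
  exact ⟨(Bh p z)⁻¹ • z, by simp [z0], by simp [hz a], by simp [hz b], by simp [zp]⟩

theorem gen_Fx0 (m : UM.Mo Bh) {x : N} (hx : Bh x x ≠ 0) {A : Subgroup (sIsom Bh)}
    (k : ∀ y, Bh y y = 0 → Bh x y = 0 → tT Bh y 1 ∈ A) {g : sIsom Bh} (hg : lin g x = x) :
    g ∈ A := by
  have h1 := m.toGood.finrank_orth (K ∙ x)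
  have h2 := m.six
  rw [finrank_span_singleton (by rintro rfl; simp at hx)] at h1
  refine genN m (m.toGood.nondegOn_orth (Good.nondegOn_span_singleton hx)) (by omega)
    (fun y hy y0 => k y y0 (mem_orth_span_singleton.1 hy)) ?_
  rw [m.toGood.orth_orth]
  exact UM.mem_Fx1.2 hg

theorem gen_Fx1 (m : UM.Mo Bh) {u : N} (hu : Bh u u = 0) (u0 : u ≠ 0) {A : Subgroup (sIsom Bh)}
    (k : ∀ y, Bh y y = 0 → Bh u y = 0 → tT Bh y 1 ∈ A) {g : sIsom Bh} (hg : lin g u = u) :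
    g ∈ A := by
  obtain ⟨f, hf, huf⟩ := m.cls.exists_hyperbolic u0 hu
  obtain ⟨π, ι, h1, h2, -, h3⟩ := UM.levi m.toHerm hu hf huf
  have hU := m.cls.nondegOn_hypU hu hf huf
  have h4 := m.cls.finrank_hypU hu huf
  have h6 := m.six
  let S : AddSubgroup (hypU Bh u f) :=
    { carrier := {w | ∃ b, ∃ a ∈ A, b + σ b = Bh w w ∧ IsE Bh 1 u w b a}
      zero_mem' := ⟨0, 1, one_mem _, by simp, fun x => by simp⟩
      add_mem' := by
        rintro w w' ⟨b, a, ha, e, k⟩ ⟨b', a', ha', e', k'⟩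
        refine ⟨_, _, mul_mem ha ha', ?_, k.mul hu (m.swap (mem_hypU.1 w.2).1) (mem_hypU.1 w'.2).1 k'⟩
        simp only [map_add, one_mul, Submodule.coe_add, LinearMap.add_apply, m.toHerm.conj]
        linear_combination e + e'
      neg_mem' := fun {w} hw => by
        rwa [show -w = w from Subtype.ext (neg_eq_of_add_eq_zero_left (m.vadd_self _))] }
  have h5 : ∀ w, w ∈ S := UM.AP1.add_top (m.toHerm.restrict hU) (by omega) fun w hw => by
    have i2 : I2 Bh u w := ⟨hu, hw, (mem_hypU.1 w.2).1⟩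
    refine ⟨0, _, ?_, by rw [map_zero, add_zero, i2.ww], m.isE i2⟩
    rw [m.tE_eq i2]
    exact mul_mem (mul_mem (k _ (i2.add m) (by rw [map_add, hu, i2.uw, add_zero])) (k u hu hu))
      (k _ hw i2.uw)
  have h7 : UM.QW Bh (K ∙ u) ≤ A := fun q hq => by
    obtain ⟨w, hw, b, e, k1⟩ := (UM.mem_Q1 m.toHerm hu hf huf).1 hq
    obtain ⟨b', a, ha, e', k2⟩ := h5 ⟨w, hw⟩
    have hc : σ (b + b') = b + b' := by
      rw [map_add]
      linear_combination e + e' + (Bh w w - b - b') * m.two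
    have k3 : IsE Bh 1 u 0 (b + b') (tT Bh u (b + b')) := fun x => by
      rw [m.lin_tT hu hc, m.vsub]; simp
    have k4 := k3.mul hu (by simp) (mem_hypU.1 hw).1 k2
    rw [zero_add, map_zero, LinearMap.zero_apply, mul_zero, add_zero, add_assoc, m.add_self,
      add_zero] at k4
    rw [k1.unique k4]
    exact mul_mem (GEN.T_mem m hu (fun a => k _ (by simp [hu]) (by simp [hu])) hc) ha
  let p : Fx Bh (K ∙ u) := ⟨g, UM.mem_Fx1.2 hg⟩
  have h8 : (ι (π p) : sIsom Bh) ∈ A := genN m hU (by omega)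
    (fun y hy y0 => k y y0 (mem_hypU.1 hy).1) (by
      change _ ∈ Fx Bh (orth Bh (orth Bh (Submodule.span K {u, f})))
      rw [m.toGood.orth_orth, UM.mem_Fx_span]
      rintro _ (rfl | rfl)
      exacts [UM.mem_Fx1.1 (ι _).2, (h3 _).1])
  exact (mul_mem_cancel_right (inv_mem h8)).1 (h7 ((h2 (p * (ι (π p))⁻¹)).1 (by simp [h1])))

end Cfsg.Lib.SPU
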