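import Cfsg.Agent.SPU.M0
import Cfsg.Agent.SPU.M1
import Cfsg.Agent.SPN.K3

/-!
# The unitary overgroups: the candidates for the transvections
-/

set_option autoImplicit false
set_option linter.unusedSectionVars false
set_option linter.unusedVariables false

namespace Cfsg.Lib.SPU

open Subgroup Module Cfsg.Lib.Trans Cfsg.Lib.Gold Cfsg.Lib.Class.Form Cfsg.Lib.Class.FAut
open Cfsg.Lib.UM (tT tE I2 I3 Fx Semi Mp Ot sg kk qn)
open Cfsg.Lib.SPN (P2 P3 O3 G1 G2 T1 T3)
open scoped commutatorElement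

section Gen
variable {G F M K N N' : Type*} [Group G] [Finite G] [Field F] [Finite F] [AddCommGroup M]
  [Module F M] [FiniteDimensional F M] [Field K] [Finite K] [AddCommGroup N] [Module K N]
  [FiniteDimensional K N] [AddCommGroup N'] [Module K N'] [FiniteDimensional K N'] {σ : K →+* K}
  {B : M →ₗ[F] M →ₗ[F] F} {Bh : N →ₛₗ[σ] N →ₗ[K] K} {Bh' : N' →ₛₗ[σ] N' →ₗ[K] K}
  {ρ : F →+* K} {β : F} {γ : K} {j : M →+ N} {v : N} {v' : N'} {ι : sIsom B →* sIsom Bh}
  {ι' : sIsom Bh →* sIsom Bh'} {i : N →ₗ[K] N'} {φ : sIsom B →* G} {t : G} {H : M → M → G}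
  {ψ : sIsom Bh →* G}

namespace T1f

theorem mo (h : TU φ t H β) : SPN.Mo B := h.toMod.toMo

theorem o3 (m : SPN.Mo B) {u w : M} (k : B u w = 0) (a b c d e f : F) :
    O3 B (a • u + b • w) (c • u + d • w) (e • u + f • w) := by
  refine ⟨?_, ?_, ?_⟩ <;> simp [k, m.alt, m.swap k]

end T1f

theorem Yt_eq (r : RF B Bh ρ β γ j v) (u w : M) (c : F) :
    Yt φ H β γ j (j u + γ • j w) c = Th φ H β u w c := by
  have e : ∃ p : M × M, j u + γ • j w = j p.1 + γ • j p.2 := ⟨(u, w), rfl⟩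
  obtain ⟨e1, e2⟩ := r.inj2 e.choose_spec
  rw [Yt, dif_pos e, ← e1, ← e2]

theorem TU.H_zero (h : TU φ t H β) (u : M) : H u 0 = 1 := by
  have := h.self 0 u
  rwa [zero_smul, mul_zero, (T1f.mo h).tT_zero, map_one] at this

theorem TU.H_zero' (h : TU φ t H β) (w : M) : H 0 w = 1 := by
  have := h.smul 0 w w
  rwa [zero_smul, h.H_zero] at this

theorem TU.H_fix (h : TU φ t H β) {g : sIsom B} {u w : M} (k : lin g u = u) (k' : lin g w = w) :
    Commute (φ g) (H u w) := by
  have := h.eqv g u w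
  rw [k, k'] at this
  exact mul_inv_eq_iff_eq_mul.1 this

theorem TU.H_shift (h : TU φ t H β) {u w : M} (k : B u w = 0) (a : F) :
    H u w = H u (w + a • u) * φ (tT B u a) := by
  have m := T1f.mo h
  rw [h.add2 u w (a • u) ⟨k, by simp [m.alt], by simp [m.swap k]⟩, h.self, one_mul, mul_assoc,
    ← map_mul, m.tT_sq, map_one, mul_one]

namespace T1f

/-- The general element of an elementary abelian group attached to `u, w`. -/
noncomputable def PP (φ : sIsom B →* G) (H : M → M → G) (u w : M) (p q l s : F) : G :=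
  φ (tT B u p * tT B w q * tE B u (l • w)) * H w (s • u)

theorem PP_eq_1' : type_of% @PP.eq_1 := @PP.eq_1

theorem cV (h : TU φ t H β) {u w : M} (k : B u w = 0) (p q l s : F) :
    Commute (φ (tT B u p * tT B w q * tE B u (l • w))) (H w (s • u)) := by
  have m := mo h
  refine h.H_fix ?_ ?_ <;> rw [SPN.K3.lin_v2 m k] <;> simp [k, m.alt, m.swap k]

theorem P_mul (h : TU φ t H β) {u w : M} (k : B u w = 0) (p q l s p' q' l' s' : F) :
    PP φ H u w p q l s * PP φ H u w p' q' l' s' = PP φ H u w (p + p') (q + q') (l + l') (s + s') := by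
  have m := mo h
  rw [PP, PP, PP, (cV h k p' q' l' s).symm.mul_mul_mul_comm, ← map_mul, SPN.K3.v2_mul m k,
    add_smul s s' u, h.add2 w (s • u) (s' • u) ⟨by simp [m.swap k], by simp [m.swap k], by simp [m.alt]⟩]

theorem P_T (h : TU φ t H β) {u w : M} (k : B u w = 0) (a b c : F) :
    φ (tT B (a • u + b • w) c) = PP φ H u w (a * a * c) (b * b * c) (a * b * c) 0 := by
  have m := mo h
  rw [PP, zero_smul, h.H_zero, mul_one, m.tT_vadd (by simp [k]), m.tT_smul, m.tT_smul,
    m.tE_smul (by simp [k]), smul_smul, smul_smul, show a * c * b = a * b * c by ring]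

theorem P_H (h : TU φ t H β) {u w : M} (k : B u w = 0) (a b c d : F) :
    H (a • u + b • w) (c • u + d • w) = PP φ H u w (a * c) (b * d) (a * d) (a * d + b * c) := by
  have m := mo h
  have k' := m.swap k
  have h1 : ∀ s : F, H u (s • u) = PP φ H u w s 0 0 0 := fun s => by
    rw [PP, h.self, one_mul, zero_smul, zero_smul, h.H_zero, m.tT_zero, m.tE_zero, mul_one, mul_one,
      mul_one]
  have h2 : ∀ s : F, H w (s • w) = PP φ H u w 0 s 0 0 := fun s => by
    rw [PP, h.self, one_mul, zero_smul, zero_smul, h.H_zero, m.tT_zero, m.tE_zero, mul_one, mul_one,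
      one_mul]
  have h3 : ∀ s : F, H w (s • u) = PP φ H u w 0 0 0 s := fun s => by
    rw [PP, zero_smul, m.tT_zero, m.tT_zero, m.tE_zero, mul_one, mul_one, map_one, one_mul]
  have h4 : ∀ s : F, H u (s • w) = PP φ H u w 0 0 s s := fun s => by
    rw [PP, (cV h k 0 0 s s).eq, m.tT_zero, m.tT_zero, one_mul, one_mul, ← h.smul,
      h.swap w (s • u) (by simp [k']), one_smul, m.tE_comm (u := w) (by simp [k']), m.tE_smul k]
  have o : ∀ x y z : M, x ∈ [u, w] → y ∈ [u, w] → z ∈ [u, w] → ∀ p q : F,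
      O3 B x (p • y) (q • z) := by
    intro x y z hx hy hz p q
    simp only [List.mem_cons, List.not_mem_nil, or_false] at hx hy hz
    rcases hx with rfl | rfl <;> rcases hy with rfl | rfl <;> rcases hz with rfl | rfl <;>
      refine ⟨?_, ?_, ?_⟩ <;> simp [k, k', m.alt]
  rw [h.add1 _ _ _ ⟨by simp [k], by simp [k, m.alt], by simp [k', m.alt]⟩, h.smul, h.smul, smul_add,
    smul_add, smul_smul, smul_smul, smul_smul, smul_smul,
    h.add2 _ _ _ (o _ _ _ (by simp) (by simp) (by simp) _ _),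
    h.add2 _ _ _ (o _ _ _ (by simp) (by simp) (by simp) _ _), h1, h2, h3, h4, P_mul h k, P_mul h k,
    P_mul h k]
  simp only [add_zero, zero_add]

theorem P_Th (h : TU φ t H β) (u w : M) (c : F) :
    Th φ H β u w c = PP φ H u w c (β * c) 0 c := by
  rw [Th, PP, zero_smul, (mo h).tE_zero, mul_one]

end T1f

theorem TU.Y_real (h : TU φ t H β) (r : RF B Bh ρ β γ j v) (u : M) (c : F) :
    Yt φ H β γ j (j u) c = φ (tT B u c) := by
  have := Yt_eq (φ := φ) (H := H) r u 0 c
  rwa [map_zero, smul_zero, add_zero, Th, h.H_zero', r.sp.tT_zero', mul_one, mul_one] at this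

theorem TU.Y_zero (h : TU φ t H β) (r : RF B Bh ρ β γ j v) (c : F) : Yt φ H β γ j 0 c = 1 := by
  have := h.Y_real r 0 c
  rwa [map_zero, r.sp.tT_zero', map_one] at this

theorem TU.Y_sq (h : TU φ t H β) (r : RF B Bh ρ β γ j 0) {x : N} (hx : Bh x x = 0) (c : F) :
    Yt φ H β γ j x c * Yt φ H β γ j x c = 1 := by
  obtain ⟨u, w, rfl⟩ := r.co0 x
  have k := (r.iso_iff u w).1 hx
  have m := r.sp
  rw [Yt_eq r, T1f.P_Th h, T1f.P_mul h k, m.add_self, m.add_self, m.add_self, T1f.PP, zero_smul,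
    zero_smul, h.H_zero, m.tT_zero, m.tT_zero, m.tE_zero, mul_one, mul_one, mul_one, map_one]

theorem TU.Y_smul (h : TU φ t H β) (r : RF B Bh ρ β γ j 0) {x : N} (hx : Bh x x = 0) {a : K} {n : F}
    (hn : ρ n = σ a * a) (c : F) : Yt φ H β γ j (a • x) c = Yt φ H β γ j x (n * c) := by
  obtain ⟨u, w, rfl⟩ := r.co0 x
  have k := (r.iso_iff u w).1 hx
  have m := r.sp
  obtain ⟨a, b, rfl⟩ := r.co a
  rw [r.toQE.nm] at hn
  obtain rfl := ρ.injective hn
  rw [r.smul2, Yt_eq r, Yt_eq r, T1f.P_Th h u w, Th, map_mul, T1f.P_T h k, T1f.P_T h k, smul_add,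
    smul_smul, smul_smul, T1f.P_H h k, T1f.P_mul h k, T1f.P_mul h k]
  congr 1
  · ring
  · linear_combination (β * c * (a * b + b * b)) * m.two
  · linear_combination (β * c * (a * b + b * b)) * m.two
  · ring

theorem TU.Y_phi (h : TU φ t H β) (r : RF B Bh ρ β γ j 0) (e : Em ι j 0) (g : sIsom B) (x : N) :
    EQ φ H β γ j (φ g) (ι g) x := fun c => by
  obtain ⟨u, w, rfl⟩ := r.co0 x
  have m := r.sp
  rw [e.lin2, Yt_eq r, Yt_eq r, Th, Th, ← conj_mul (b := φ g), h.eqv, map_smul, ← m.tT_conj,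
    ← m.tT_conj, conj_mul, map_mul φ (g * _), map_mul φ g, map_inv]

theorem EQ.mul {g g' : G} {s s' : sIsom Bh} {x : N} (k : EQ φ H β γ j g s (lin s' x))
    (k' : EQ φ H β γ j g' s' x) : EQ φ H β γ j (g * g') (s * s') x := fun c => by
  rw [lin_mul, ← k c, ← k' c]
  group

theorem TU.EQ_smul (h : TU φ t H β) (r : RF B Bh ρ β γ j 0) {g : G} {s : sIsom Bh} {x : N}
    (hx : Bh x x = 0) (k : EQ φ H β γ j g s x) (a : K) : EQ φ H β γ j g s (a • x) := fun c => by
  obtain ⟨n, hn⟩ := r.toQE.exists_n a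
  rw [map_smul, h.Y_smul r hx hn, h.Y_smul r (by rw [lin_isom, hx]) hn, k]

end Gen

end Cfsg.Lib.SPU
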