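import Cfsg.Agent.SPU.M3
import Cfsg.Agent.SPU.I2

/-!
# The unitary overgroups: the end for `U_{2k+1}(q)`
-/

set_option autoImplicit false
set_option linter.unusedSectionVars false
set_option linter.unusedVariables false

namespace Cfsg.Lib.SPU

open Subgroup Module Cfsg.Lib.Trans Cfsg.Lib.Gold Cfsg.Lib.Class.Form Cfsg.Lib.Class.FAut
open Cfsg.Lib.UM (tT tE I2 I3 Fx Semi Mp Ot sg kk qn)
open Cfsg.Lib.SPN (P2 P3 O3 G1 G2 T1 T3)
open scoped commutatorElement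

universe v

section Gen
variable {G F M K N N' : Type*} [Group G] [Finite G] [Field F] [Finite F] [AddCommGroup M]
  [Module F M] [FiniteDimensional F M] [Field K] [Finite K] [AddCommGroup N] [Module K N]
  [FiniteDimensional K N] [AddCommGroup N'] [Module K N'] [FiniteDimensional K N'] {σ : K →+* K}
  {B : M →ₗ[F] M →ₗ[F] F} {Bh : N →ₛₗ[σ] N →ₗ[K] K} {Bh' : N' →ₛₗ[σ] N' →ₗ[K] K}
  {ρ : F →+* K} {β : F} {γ : K} {j : M →+ N} {v : N} {v' : N'} {ι : sIsom B →* sIsom Bh}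
  {ι' : sIsom Bh →* sIsom Bh'} {i : N →ₗ[K] N'} {φ : sIsom B →* G} {t : G} {H : M → M → G}
  {ψ : sIsom Bh →* G}

theorem eu_of_T3 {D : M → G} (h : T3 φ t H D β) (r : RF B Bh ρ β γ j 0) (e : Em ι j 0)
    (k : I1 φ H ψ ι γ j) (p : PL ι' i v') {ψ' : sIsom Bh' →* G} (k1 : ∀ g, ψ' (ι' g) = ψ g)
    (k2 : ∀ u, ψ' (dm Bh' (i (j u)) v' γ) = D u) :
    EU φ t ψ' (ι'.comp ι) ρ β γ (i.toAddMonoidHom.comp j) v' := by
  have tu := tu_of_T3 h
  have r' := r.pl p
  have e' := e.pl p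
  have sp := r.sp
  have res : ∀ g, ψ' (ι' (ι g)) = φ g := fun g => (k1 _).trans (k.res g)
  have resH : ∀ u w, B u w = 0 → ψ' (ι' (UM.tE Bh (γ • j u) (j w))) = H u w := fun u w huw =>
    (k1 _).trans (k.resH u w huw)
  have rg := k.range tu r e
  have ti : t⁻¹ = t := inv_eq_of_mul_eq_one_right h.t2
  have tD : ∀ u, t * D u * t⁻¹ = D u * φ (UM.tT B u 1) := fun u => by
    have e1 := h.deqv (UM.tT B u 1) u
    rw [sp.lin_tT, sp.alt, mul_zero, zero_smul, add_zero] at e1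
    have e2 := h.dt u
    calc _ = t⁻¹ * (D u * t * (D u)⁻¹) * D u := by rw [ti]; group
      _ = φ (UM.tT B u 1) * D u * (φ (UM.tT B u 1))⁻¹ * φ (UM.tT B u 1) := by rw [e2]; group
      _ = _ := by rw [e1]
  have nrm : ∀ c, Commute c t → ∀ g, c * ψ' g * c⁻¹ ∈ ψ'.range := fun c hc g => by
    have k0 : ∀ x, c * ψ' (ι' x) * c⁻¹ ∈ ψ'.range := fun x => by
      have := tu.nG1 hc (rg.le (⟨x, rfl⟩ : ψ x ∈ ψ.range))
      rw [← rg] at this
      obtain ⟨y, hy⟩ := this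
      exact ⟨ι' y, by rw [k1, k1, hy]⟩
    have := p.gen1 r e (A := ψ'.range.comap ((MulAut.conj c).toMonoidHom.comp ψ'))
      (fun g => k0 _) (fun u w _ => k0 _) (fun u => by
        obtain ⟨α, Γ, τ, a1, a2⟩ := h.toHyp.semi hc
        obtain ⟨s, hs⟩ := h.deqvC c hc α Γ τ a1 a2
        change c * ψ' _ * c⁻¹ ∈ ψ'.range
        rw [k2, hs, ← k2, ← res, ← map_mul]
        exact ⟨_, rfl⟩)
    exact (this ▸ mem_top g : g ∈ ψ'.range.comap ((MulAut.conj c).toMonoidHom.comp ψ'))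
  refine ⟨h.toH1, r', e', ?_, res, ?_, ?_, ?_, fun e0 => absurd e0 p.ne⟩
  · have : Nontrivial M := Module.nontrivial_of_finrank_pos (R := F) (by have := sp.six; omega)
    obtain ⟨u, u0⟩ := exists_ne (0 : M)
    refine mod_of p.mo' (g := ι' (ι (UM.tT B u 1))) fun e0 => ?_
    rw [res, ← map_one φ] at e0
    exact sp.tT_ne u0 one_ne_zero (h.inj e0)
  · obtain ⟨α, Γ, a1, a2, a3⟩ := r'.conj
    refine ⟨α, Γ, fun g => ?_, a1, a2, a3⟩
    have := p.gen1 r e (A := MonoidHom.eqLocus ((MulAut.conj t).toMonoidHom.comp ψ')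
      (ψ'.comp α.toMonoidHom)) (fun g => by
        change t * ψ' (ι' (ι g)) * t⁻¹ = ψ' (α ((ι'.comp ι) g))
        rw [r'.α_ι e' a1 a2 a3, MonoidHom.comp_apply, res, (h.tc g).eq, mul_inv_cancel_right])
      (fun u w huw => by
        change t * ψ' _ * t⁻¹ = ψ' (α _)
        have e1 := r'.α_E e' a1 a2 huw
        have e2 : ι' (UM.tE Bh (γ • j u) (j w)) = UM.tE Bh' (γ • (i.toAddMonoidHom.comp j) u)
            ((i.toAddMonoidHom.comp j) w) := by
          rw [p.tE (r.i2γ huw), map_smul]; rfl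
        rw [← e2] at e1
        rw [e1, map_mul, MonoidHom.comp_apply, res, resH u w huw, tu.t_H huw])
      (fun u => by
        change t * ψ' _ * t⁻¹ = ψ' (α (dm Bh' ((i.toAddMonoidHom.comp j) u) v' γ))
        rw [r'.α_dm e' a1 a2 a3 p.vv, map_mul, MonoidHom.comp_apply, res, k2, tD]
        exact congrArg (· * _) (k2 u).symm)
    exact (this ▸ mem_top g : g ∈ MonoidHom.eqLocus ((MulAut.conj t).toMonoidHom.comp ψ')
      (ψ'.comp α.toMonoidHom))
  · have := p.gen1 r e (A := (Cs (Ot φ t)).comap ψ') (fun g => by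
        rw [mem_comap, res]
        exact mem_Cs.2 fun o ho => (mem_Cs.1 (Oc_le ho).2 _ ⟨g, rfl⟩).symm)
      (fun u w huw => by rw [mem_comap, resH u w huw]; exact h.cO u w)
      (fun u => by rw [mem_comap, k2]; exact h.dO u)
    refine le_Cs_comm.1 ?_
    rintro _ ⟨g, rfl⟩
    exact (this ▸ mem_top g : g ∈ (Cs (Ot φ t)).comap ψ')
  · intro c hc
    have hc' : Commute c t := mem_C1.1 hc
    refine mem_normalizer_iff.2 fun x => ⟨?_, fun hx => ?_⟩
    · rintro ⟨g, rfl⟩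
      exact nrm c hc' g
    · obtain ⟨g, hg⟩ := hx
      have := nrm c⁻¹ hc'.inv_left g
      rw [hg] at this
      simpa [mul_assoc] using this

end Gen

end Cfsg.Lib.SPU
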