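import Cfsg.Agent.SPU.T2
import Cfsg.Agent.SPN.K4

/-!
# The unitary overgroups: action of the new short root elements, general case
-/

set_option autoImplicit false
set_option linter.unusedSectionVars false
set_option linter.unusedVariables false

namespace Cfsg.Lib.SPU

open Subgroup Module Cfsg.Lib.Trans Cfsg.Lib.Gold Cfsg.Lib.Class.Form Cfsg.Lib.Class.FAut
open Cfsg.Lib.UM (tT tE I2 I3 Fx Semi Mp Ot sg kk qn)
open Cfsg.Lib.SPN (P2 P3 O3 G1 G2 T1 T3)
open scoped commutatorElement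

variable {G F M K N : Type*} [Group G] [Finite G] [Field F] [Finite F] [AddCommGroup M]
  [Module F M] [FiniteDimensional F M] [Field K] [Finite K] [AddCommGroup N] [Module K N]
  [FiniteDimensional K N] {σ : K →+* K}
  {B : M →ₗ[F] M →ₗ[F] F} {Bh : N →ₛₗ[σ] N →ₗ[K] K}
  {ρ : F →+* K} {β : F} {γ : K} {j : M →+ N} {v : N} {ι : sIsom B →* sIsom Bh}
  {φ : sIsom B →* G} {t : G} {H : M → M → G} {ψ : sIsom Bh →* G}

theorem T3.fix (e : Em ι j v) {g : sIsom B} {z : M} (k : lin g z = z) (x : N) :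
    Bh (j z) (lin (ι g) x) = Bh (j z) x := by
  conv_lhs => rw [← k, ← e.lj, lin_isom]

theorem T3.fixT (m : SPN.Mo B) {u x : M} (k : B u x = 0) (c : F) : lin (tT B u c) x = x := by
  simp [m.lin_tT, k]

theorem T3.line (h : TU φ t H β) (r : RF B Bh ρ β γ j 0) (e : Em ι j 0) {z y : M} (k : B z y = 0)
    {x : N} (hx : Bh x x = 0) {a : F} (ha : Bh (j y) x = ρ a * Bh (j z) x) :
    EQ φ H β γ j (H z y) (tE Bh (γ • j z) (j y)) x := by
  have m : SPN.Mo B := r.sp
  have k' : B z (y + a • z) = 0 := by simp [k, m.alt]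
  rw [h.H_shift k a, r.E_shift e k a]
  refine EQ.mul (h.eqA r k' (by rw [lin_isom, hx]) ?_) (h.Y_phi r e _ x)
  rw [T3.fix e (T3.fixT m k' a), map_add, r.smul, map_add, map_smulₛₗ, LinearMap.add_apply,
    LinearMap.smul_apply, ha, r.sρ, smul_eq_mul]
  exact r.mo.add_self _

theorem TU.eqH (h : TU φ t H β) (r : RF B Bh ρ β γ j 0) (e : Em ι j 0) {z y : M} (k : B z y = 0)
    {x : N} (hx : Bh x x = 0) : EQ φ H β γ j (H z y) (tE Bh (γ • j z) (j y)) x := by
  have m : SPN.Mo B := r.sp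
  have yz : B y z = 0 := m.swap k
  by_cases h0 : Bh (j z) x = 0
  · have e1 := h.swap y z yz
    rw [one_smul] at e1
    rw [e1, r.E_swap e yz]
    refine EQ.mul (h.eqA r yz (by rw [lin_isom, hx]) ?_) (h.Y_phi r e _ x)
    rw [T3.fix e (by simp [m.lin_tE yz, yz, m.alt]), h0]
  obtain ⟨u, w, huw⟩ := r.co0 x
  have uw : B u w = 0 := (r.iso_iff u w).1 (huw ▸ hx)
  by_cases h1 : y ∈ Submodule.span F {u, w, z}
  · obtain ⟨a, b, c, rfl⟩ := Submodule.mem_span_triple.1 h1
    refine T3.line h r e k hx (a := c) ?_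
    have h2 : Bh (j u) x = 0 := by rw [huw, r.form1, m.alt, uw]; simp
    have h3 : Bh (j w) x = 0 := by rw [huw, r.form1, m.alt, m.swap uw]; simp
    simp only [map_add, r.smul, map_smulₛₗ, LinearMap.add_apply, LinearMap.smul_apply, h2, h3, r.sρ,
      smul_eq_mul, mul_zero, zero_add]
  obtain ⟨p, c, hpc⟩ := r.co (Bh (j y) x / Bh (j z) x)
  obtain ⟨y', uy, wy, zy, yy⟩ : ∃ y', B u y' = 0 ∧ B w y' = 0 ∧ B z y' = 0 ∧ B y y' = c := by
    by_contra! hc
    refine h1 (m.mem_span fun q hq => ?_)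
    by_contra h2
    exact hc ((c / B y q) • q) (by simp [hq u (by simp)]) (by simp [hq w (by simp)])
      (by simp [hq z (by simp)]) (by simp [h2])
  have k1 : B z (y + y') = 0 := by simp [k, zy]
  have k2 : B (y + y') y' = c := by simp [yy, m.alt]
  have k3 : y + y' + y' = y := by rw [add_assoc, m.vadd_self, add_zero]
  have e1 := h.mul z _ _ k1 zy
  have e2 := r.E_mul e k1 zy
  rw [k2, k3] at e1 e2
  have e3 : H z y = H z (y + y') * (H z y' * φ (tT B z (β * c))) := by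
    rw [← mul_assoc, e1, mul_assoc (H z y), ← map_mul, m.tT_sq, map_one, mul_one]
  have e4 : tE Bh (γ • j z) (j y) =
      tE Bh (γ • j z) (j (y + y')) * (tE Bh (γ • j z) (j y') * ι (tT B z (β * c))) := by
    rw [← mul_assoc, e2, mul_assoc (tE Bh _ _), ← map_mul, m.tT_sq, map_one, mul_one]
  have f0 : Bh (j y') x = 0 := by rw [huw, r.form1, m.swap uy, m.swap wy]; simp
  have f1 : Bh (j y') (lin (ι (tT B z (β * c))) x) = 0 := by rw [T3.fix e (T3.fixT m zy _), f0]
  have f2 : Bh (j z) (lin (ι (tT B z (β * c))) x) = Bh (j z) x :=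
    T3.fix e (T3.fixT m (m.alt z) _) x
  have f3 : Bh (j (y + y')) (lin (ι (tT B z (β * c))) x) = Bh (j y) x := by
    rw [T3.fix e (T3.fixT m k1 _), map_add, map_add, LinearMap.add_apply, f0, add_zero]
  rw [e3, e4]
  refine EQ.mul (T3.line h r e k1 (by rw [lin_isom, hx]) (a := p + c) ?_)
    (EQ.mul (h.eqA r zy (by rw [lin_isom, hx]) f1) (h.Y_phi r e _ x))
  rw [lin_mul, r.lin_E zy, f1, f2, mul_zero, zero_smul, add_zero, map_add (Bh (j (y + y'))),
    map_add (Bh (j z)), map_smul, map_smul, f2, f3, r.form, r.form, k2, zy, map_zero, r.sγ, map_add]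
  rw [div_eq_iff h0] at hpc
  simp only [smul_eq_mul]
  linear_combination hpc + γ * ρ c * Bh (j z) x * r.mo.two

end Cfsg.Lib.SPU
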