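import Cfsg.Agent.SPU.M2
import Cfsg.Agent.SPU.I1
import Cfsg.Agent.SPU.D1
import Cfsg.Agent.SPU.D4
import Cfsg.Agent.SPU.D5

/-!
# Standard subgroups of type `Sp_{2k}(2ⁿ)`: the unitary overgroups
-/

set_option autoImplicit false
set_option linter.unusedSectionVars false

namespace Cfsg.Lib.SPU

open Subgroup Module Cfsg.Lib.Trans Cfsg.Lib.Gold Cfsg.Lib.Class.Form Cfsg.Lib.Class.FAut
open Cfsg.Lib.UM (kk)
open Cfsg.Lib.SPN (T1 T3)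

universe v

variable {G : Type*} {F M : Type v} [Group G] [Finite G] [Field F] [Finite F] [AddCommGroup M]
  [Module F M] [FiniteDimensional F M] {B : M →ₗ[F] M →ₗ[F] F} {β : F} {φ : sIsom B →* G} {t : G}
  {H : M → M → G}

theorem eu1 (h : T1 φ t H β) (hβ : ∀ c : F, c * c + c ≠ β) :
    ∃ (K : Type v) (_ : Field K) (_ : Finite K) (σ : K →+* K) (N : Type v) (_ : AddCommGroup N)
      (_ : Module K N) (_ : FiniteDimensional K N) (Bh : N →ₛₗ[σ] N →ₗ[K] K) (ψ : sIsom Bh →* G)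
      (ι : sIsom B →* sIsom Bh) (ρ : F →+* K) (γ : K) (j : M →+ N) (v : N),
      EU φ t ψ ι ρ β γ j v ∧ finrank K N = 2 * kk F M := by
  obtain ⟨K, _, _, σ, ρ, γ, q⟩ := ex_QE h.two hβ
  obtain ⟨N, _, _, _, Bh, j, r⟩ := ex_RF h.toMo q
  obtain ⟨ι, e⟩ := r.em
  obtain ⟨ψ, k⟩ := (tu_of_T1 h).i1 r e
  exact ⟨K, _, ‹_›, σ, N, _, _, ‹_›, Bh, ψ, ι, ρ, γ, j, 0, eu_of_T1 h r e k, r.rank0 rfl⟩

theorem eu3 {D : M → G} (h : T3 φ t H D β) (hβ : ∀ c : F, c * c + c ≠ β) :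
    ∃ (K : Type v) (_ : Field K) (_ : Finite K) (σ : K →+* K) (N : Type v) (_ : AddCommGroup N)
      (_ : Module K N) (_ : FiniteDimensional K N) (Bh : N →ₛₗ[σ] N →ₗ[K] K) (ψ : sIsom Bh →* G)
      (ι : sIsom B →* sIsom Bh) (ρ : F →+* K) (γ : K) (j : M →+ N) (v : N),
      EU φ t ψ ι ρ β γ j v ∧ finrank K N = 2 * kk F M + 1 := by
  obtain ⟨K, _, _, σ, ρ, γ, q⟩ := ex_QE h.two hβ
  obtain ⟨N, _, _, _, Bh, j, r⟩ := ex_RF h.toMo q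
  obtain ⟨ι, e⟩ := r.em
  obtain ⟨ψ, k⟩ := (tu_of_T3 h).i1 r e
  obtain ⟨D', u, hD⟩ := ud_of_T3 h r e k
  obtain ⟨N', _, _, _, Bh', ι', i, v', p⟩ := ex_PL r.mo
  obtain ⟨ψ', k1, k2⟩ := u.ext p
  exact ⟨K, _, ‹_›, σ, N', _, _, ‹_›, Bh', ψ', _, ρ, γ, _, v',
    eu_of_T3 h r e k p k1 fun w => (k2 _ (r.iso w)).trans (hD w), (r.pl p).rank1 p.ne⟩

end Cfsg.Lib.SPU
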