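import Cfsg.Agent.SPN.Defs3

/-!
# Standard subgroups of type `Sp_{2k}(2ⁿ)`: the unitary overgroups, definitions
-/

set_option autoImplicit false
set_option linter.unusedSectionVars false

noncomputable section

namespace Cfsg.Lib.SPU

open Subgroup Module Cfsg.Lib.Trans Cfsg.Lib.Gold Cfsg.Lib.Class.Form Cfsg.Lib.Class.FAut
open Cfsg.Lib.UM (tT tE I2 I3 Fx Semi Mp Ot sg)
open scoped commutatorElement

section Model

variable {F M K N N' : Type*} [Field F] [AddCommGroup M] [Module F M] [Field K] [AddCommGroup N]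
  [Module K N] [AddCommGroup N'] [Module K N'] {σ : K →+* K}

/-- `K = F[γ]`, `γ² + γ = β`. -/
structure QE (ρ : F →+* K) (σ : K →+* K) (β : F) (γ : K) : Prop where
  sq : γ * γ + γ = ρ β
  sγ : σ γ = γ + 1
  sρ : ∀ a, σ (ρ a) = ρ a
  co : ∀ k, ∃ a b, k = ρ a + γ * ρ b

/-- `N = M ⊗ K ⊥ K v`, where `v = 0` or `v` is a unit vector. -/
structure RF (B : M →ₗ[F] M →ₗ[F] F) (Bh : N →ₛₗ[σ] N →ₗ[K] K) (ρ : F →+* K) (β : F) (γ : K)
    (j : M →+ N) (v : N) : Prop extends QE ρ σ β γ where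
  mo : UM.Mo Bh
  sp : SPN.Mo B
  smul : ∀ (a : F) u, j (a • u) = ρ a • j u
  form : ∀ u w, Bh (j u) (j w) = ρ (B u w)
  jv : ∀ u, Bh (j u) v = 0
  vv : v = 0 ∨ Bh v v = 1
  span : ∀ x, ∃ (u w : M) (k : K), x = j u + γ • j w + k • v

/-- The embedding of the symplectic group. -/
structure Em {B : M →ₗ[F] M →ₗ[F] F} {Bh : N →ₛₗ[σ] N →ₗ[K] K} (ι : sIsom B →* sIsom Bh)
    (j : M →+ N) (v : N) : Prop where
  lj : ∀ g u, lin (ι g) (j u) = j (lin g u)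
  lv : ∀ g, lin (ι g) v = v

/-- `N' = N ⊥ K v`. -/
structure PL {Bh : N →ₛₗ[σ] N →ₗ[K] K} {Bh' : N' →ₛₗ[σ] N' →ₗ[K] K} (ι : sIsom Bh →* sIsom Bh')
    (i : N →ₗ[K] N') (v : N') : Prop where
  mo : UM.Mo Bh
  mo' : UM.Mo Bh'
  form : ∀ x y, Bh' (i x) (i y) = Bh x y
  iv : ∀ x, Bh' (i x) v = 0
  vv : Bh' v v = 1
  span : ∀ y, ∃ (x : N) (k : K), y = i x + k • v
  li : ∀ g x, lin (ι g) (i x) = i (lin g x)
  lv : ∀ g, lin (ι g) v = v

open Classical in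
/-- The element `z ↦ z + B(x, z) v + (B(v, z) + b B(x, z)) x`. -/
def dm (Bh : N →ₛₗ[σ] N →ₗ[K] K) (x v : N) (b : K) : sIsom Bh :=
  if h : ∃ g, IsE Bh 1 x v b g then h.choose else 1

theorem dm_eq_1' : type_of% @dm.eq_1 := @dm.eq_1

end Model

section Hyp

variable {G F M K N : Type*} [Group G] [Field F] [AddCommGroup M] [Module F M] [Field K]
  [AddCommGroup N] [Module K N] {σ : K →+* K} {B : M →ₗ[F] M →ₗ[F] F} {Bh : N →ₛₗ[σ] N →ₗ[K] K}

/-- The relations common to the types I and III. -/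
structure TU (φ : sIsom B →* G) (t : G) (H : M → M → G) (β : F) : Prop
    extends SPN.TH φ t H 1 β where
  mul : SPN.MU φ H β

/-- The candidate for the transvection with centre `u + γ w`. -/
def Th (φ : sIsom B →* G) (H : M → M → G) (β : F) (u w : M) (c : F) : G :=
  φ (tT B u c * tT B w (β * c)) * H w (c • u)

open Classical in
/-- The same as a function of the vector. -/
def Yt (φ : sIsom B →* G) (H : M → M → G) (β : F) (γ : K) (j : M →+ N) (x : N) (c : F) : G :=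
  if h : ∃ p : M × M, x = j p.1 + γ • j p.2 then Th φ H β h.choose.1 h.choose.2 c else 1

/-- `g` acts on `Yt x` as `s`. -/
def EQ (φ : sIsom B →* G) (H : M → M → G) (β : F) (γ : K) (j : M →+ N) (g : G) (s : sIsom Bh)
    (x : N) : Prop := ∀ c, g * Yt φ H β γ j x c * g⁻¹ = Yt φ H β γ j (lin s x) c

theorem Th_eq_1' : type_of% @Th.eq_1 := @Th.eq_1
theorem Yt_eq_1' : type_of% @Yt.eq_1 := @Yt.eq_1
theorem EQ_eq_1' : type_of% @EQ.eq_1 := @EQ.eq_1

/-- The group generated by `L` and the `H u w` is an image of `SU(M ⊗ K)`. -/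
structure I1 (φ : sIsom B →* G) (H : M → M → G) (ψ : sIsom Bh →* G) (ι : sIsom B →* sIsom Bh)
    (γ : K) (j : M →+ N) : Prop where
  res : ∀ g, ψ (ι g) = φ g
  resH : ∀ u w, B u w = 0 → ψ (tE Bh (γ • j u) (j w)) = H u w

/-- Elements which behave like the `dm x v γ`. -/
structure UD (ψ : sIsom Bh →* G) (γ : K) (D : N → G) : Prop where
  tr : γ + σ γ = 1
  d0 : D 0 = 1
  eqv : ∀ g x, Bh x x = 0 → ψ g * D x * (ψ g)⁻¹ = D (lin g x)
  add : ∀ x y, I2 Bh x y → D (x + y) = D x * D y * ψ (tE Bh (γ • y) x)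

/-- The unitary end: `v = 0` for `U_{2k}(q)`, `v ≠ 0` for `U_{2k+1}(q)`. -/
structure EU (φ : sIsom B →* G) (t : G) (ψ : sIsom Bh →* G) (ι : sIsom B →* sIsom Bh)
    (ρ : F →+* K) (β : F) (γ : K) (j : M →+ N) (v : N) : Prop extends SPN.H1 φ t where
  rf : RF B Bh ρ β γ j v
  em : Em ι j v
  md : UM.Mod ψ
  res : ∀ g, ψ (ι g) = φ g
  act : ∃ α Γ, Mp ψ ψ t α ∧ Semi α Γ (sg σ) ∧ (∀ u, Γ (j u) = j u) ∧ Γ v = v
  cO : Ot φ t ≤ Cs ψ.range
  nL : C1 t ≤ Ns ψ.range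
  nb : v = 0 → ∀ u, u ≠ 0 → ¬ IsConj t (t * φ (tT B u 1))

end Hyp

end Cfsg.Lib.SPU

end
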