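import Cfsg.Agent.SPU.Defs
import Cfsg.Agent.SPN.K1

/-!
# Unitary overgroups of `Sp_{2k}(2ⁿ)`: the quadratic extension and the real form
-/

set_option autoImplicit false
set_option linter.unusedSectionVars false
set_option linter.unusedVariables false

namespace Cfsg.Lib.SPU

open Subgroup Module Cfsg.Lib.Trans Cfsg.Lib.Gold Cfsg.Lib.Class.Form Cfsg.Lib.Class.FAut
open Cfsg.Lib.UM (tT tE I2 I3 Fx Semi Mp Ot sg kk qn)
open Cfsg.Lib.SPN (P2 P3 O3 G1 G2 T1 T3)
open scoped commutatorElement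

variable {G F M K N N' : Type*} [Group G] [Finite G] [Field F] [Finite F] [AddCommGroup M]
  [Module F M] [FiniteDimensional F M] [Field K] [Finite K] [AddCommGroup N] [Module K N]
  [FiniteDimensional K N] [AddCommGroup N'] [Module K N'] [FiniteDimensional K N'] {σ : K →+* K}
  {B : M →ₗ[F] M →ₗ[F] F} {Bh : N →ₛₗ[σ] N →ₗ[K] K} {Bh' : N' →ₛₗ[σ] N' →ₗ[K] K}
  {ρ : F →+* K} {β : F} {γ : K} {j : M →+ N} {v : N} {v' : N'} {ι : sIsom B →* sIsom Bh}
  {ι' : sIsom Bh →* sIsom Bh'} {i : N →ₗ[K] N'} {φ : sIsom B →* G} {t : G} {H : M → M → G}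
  {ψ : sIsom Bh →* G}

theorem QE.two (h : QE ρ σ β γ) : (2 : K) = 0 := by
  have e := congrArg σ h.sq
  rw [map_add, map_mul, h.sγ, h.sρ, ← h.sq] at e
  by_contra h2
  have e1 : γ = -1 := eq_neg_of_add_eq_zero_left
    ((mul_eq_zero.1 (by linear_combination e : (2 : K) * (γ + 1) = 0)).resolve_left h2)
  have e2 := h.sγ
  rw [e1, map_neg, map_one] at e2
  exact one_ne_zero (by linear_combination -e2 : (1 : K) = 0)

theorem QE.inj (h : QE ρ σ β γ) {a b a' b' : F} (e : ρ a + γ * ρ b = ρ a' + γ * ρ b') :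
    a = a' ∧ b = b' := by
  have e1 := congrArg σ e
  simp only [map_add, map_mul, h.sγ, h.sρ] at e1
  have e2 : ρ b = ρ b' := by linear_combination e1 - e
  exact ⟨ρ.injective (by linear_combination e - γ * e2), ρ.injective e2⟩

theorem QE.ss (h : QE ρ σ β γ) (k : K) : σ (σ k) = k := by
  obtain ⟨a, b, rfl⟩ := h.co k
  simp only [map_add, map_mul, h.sγ, h.sρ, map_one]
  linear_combination ρ b * h.two

theorem QE.fix (h : QE ρ σ β γ) {k : K} (e : σ k = k) : ∃ a, k = ρ a := by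
  obtain ⟨a, b, rfl⟩ := h.co k
  simp only [map_add, map_mul, h.sγ, h.sρ] at e
  exact ⟨a, by linear_combination γ * e⟩

theorem QE.nγ (h : QE ρ σ β γ) : σ γ * γ = ρ β := by
  rw [h.sγ, ← h.sq]; ring

theorem QE.trγ (h : QE ρ σ β γ) : γ + σ γ = 1 := by
  rw [h.sγ]; linear_combination γ * h.two

theorem QE.exists_n (h : QE ρ σ β γ) (a : K) : ∃ n, ρ n = σ a * a :=
  (h.fix (k := σ a * a) (by rw [map_mul, h.ss, mul_comm])).imp fun _ e => e.symm

theorem QE.nm (h : QE ρ σ β γ) (a b : F) :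
    σ (ρ a + γ * ρ b) * (ρ a + γ * ρ b) = ρ (a * a + a * b + β * (b * b)) := by
  simp only [map_add, map_mul, h.sγ, h.sρ, ← h.sq]
  linear_combination (γ * ρ a * ρ b) * h.two

theorem QE.card (h : QE ρ σ β γ) : Nat.card K = Nat.card F ^ 2 := by
  rw [pow_two, ← Nat.card_prod]
  exact (Nat.card_eq_of_bijective (fun p : F × F => ρ p.1 + γ * ρ p.2)
    ⟨fun p q e => Prod.ext (h.inj e).1 (h.inj e).2, fun k =>
      let ⟨a, b, e⟩ := h.co k; ⟨(a, b), e.symm⟩⟩).symm

theorem QE.qn (h : QE ρ σ β γ) : qn σ = Nat.card F :=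
  (Nat.card_eq_of_bijective (fun a : F => (⟨ρ a, h.sρ a⟩ : {a : K // σ a = a}))
    ⟨fun _ _ e => ρ.injective (congrArg Subtype.val e), fun k =>
      let ⟨a, e⟩ := h.fix k.2; ⟨a, Subtype.ext e.symm⟩⟩).symm

theorem RF.vj (h : RF B Bh ρ β γ j v) (u : M) : Bh v (j u) = 0 := h.mo.swap (h.jv u)

theorem RF.co0 (h : RF B Bh ρ β γ j 0) (x : N) : ∃ u w, x = j u + γ • j w := by
  obtain ⟨u, w, k, e⟩ := h.span x
  exact ⟨u, w, by rw [e, smul_zero, add_zero]⟩

theorem RF.form2 (h : RF B Bh ρ β γ j v) (u w u' w' : M) :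
    Bh (j u + γ • j w) (j u' + γ • j w') =
      ρ (B u u' + β * B w w' + B w u') + γ * ρ (B u w' + B w u') := by
  simp only [map_add, map_mul, map_smulₛₗ, LinearMap.add_apply, LinearMap.smul_apply, smul_eq_mul,
    RingHom.id_apply, h.form, h.sγ, ← h.sq]
  ring

theorem RF.form1 (h : RF B Bh ρ β γ j v) (z u w : M) :
    Bh (j z) (j u + γ • j w) = ρ (B z u) + γ * ρ (B z w) := by
  rw [map_add, map_smul, h.form, h.form, smul_eq_mul]

theorem RF.iso_iff (h : RF B Bh ρ β γ j v) (u w : M) :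
    Bh (j u + γ • j w) (j u + γ • j w) = 0 ↔ B u w = 0 := by
  rw [h.form2, h.sp.alt, h.sp.alt, h.sp.symm w u, h.sp.add_self]
  simp

theorem RF.iso (h : RF B Bh ρ β γ j v) (u : M) : Bh (j u) (j u) = 0 := by
  rw [h.form, h.sp.alt, map_zero]

theorem RF.inj (h : RF B Bh ρ β γ j v) {u w u' w' : M} {k k' : K}
    (e : j u + γ • j w + k • v = j u' + γ • j w' + k' • v) : u = u' ∧ w = w' ∧ k • v = k' • v := by
  have e1 : ∀ z, B z u = B z u' ∧ B z w = B z w' := fun z => h.toQE.inj (by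
    have := congrArg (Bh (j z)) e
    rwa [map_add _ _ (k • v), map_add _ _ (k' • v), h.form1, h.form1, map_smul, map_smul, h.jv,
      smul_zero, smul_zero, add_zero, add_zero] at this)
  have k : ∀ x y : M, (∀ z, B z x = B z y) → x = y := fun x y k => by
    by_contra hc
    obtain ⟨z, hz⟩ := h.sp.exists_eq (sub_ne_zero.2 hc) 1
    rw [h.sp.symm, map_sub, k, sub_self] at hz
    exact zero_ne_one hz
  obtain rfl := k u u' fun z => (e1 z).1
  obtain rfl := k w w' fun z => (e1 z).2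
  exact ⟨rfl, rfl, add_left_cancel e⟩

theorem RF.inj2 (h : RF B Bh ρ β γ j v) {u w u' w' : M}
    (e : j u + γ • j w = j u' + γ • j w') : u = u' ∧ w = w' :=
  have := h.inj (k := 0) (k' := 0) (congrArg (· + (0 : K) • v) e)
  ⟨this.1, this.2.1⟩

theorem RF.j_inj (h : RF B Bh ρ β γ j v) : Function.Injective j := fun _ _ e =>
  (h.inj2 (congrArg (· + γ • j 0) e)).1

theorem RF.smul2 (h : RF B Bh ρ β γ j v) (a b : F) (u w : M) :
    (ρ a + γ * ρ b) • (j u + γ • j w) = j (a • u + (β * b) • w) + γ • j (b • u + (a + b) • w) := by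
  simp only [map_add, map_mul, h.smul, ← h.sq]
  match_scalars
  · ring
  · linear_combination (-γ * ρ b) * h.toQE.two

theorem RF.i2 (h : RF B Bh ρ β γ j v) {u w : M} (k : B u w = 0) : I2 Bh (j u) (j w) :=
  ⟨h.iso u, h.iso w, by rw [h.form, k, map_zero]⟩

theorem RF.i2γ (h : RF B Bh ρ β γ j v) {u w : M} (k : B u w = 0) : I2 Bh (γ • j u) (j w) := by
  simpa using (h.i2 k).smul γ 1

theorem M0.li (h : RF B Bh ρ β γ j v) {n : ℕ} {x : Fin n → M} (k : LinearIndependent F x) :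
    LinearIndependent K fun i => j (x i) := by
  rw [Fintype.linearIndependent_iff] at k ⊢
  intro c hc i
  choose a b e using fun i => h.co (c i)
  obtain ⟨e1, e2⟩ := h.inj2 (u := ∑ i, a i • x i) (w := ∑ i, b i • x i) (u' := 0) (w' := 0) (by
    simp only [map_sum, h.smul, Finset.smul_sum, ← Finset.sum_add_distrib, smul_smul, ← add_smul,
      ← e, hc, map_zero, smul_zero, add_zero])
  rw [e, k a e1, k b e2, map_zero, mul_zero, add_zero]

theorem RF.li2 (h : RF B Bh ρ β γ j v) {u w : M} (k : P2 B u w) :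
    LinearIndependent K ![j u, j w] := by
  convert M0.li h k.li using 1
  ext i
  fin_cases i <;> rfl

theorem RF.li3 (h : RF B Bh ρ β γ j v) {u w x : M} (k : P3 B u w x) :
    I3 Bh (j u) (j w) (j x) ∧ LinearIndependent K ![j u, j w, j x] := by
  refine ⟨⟨h.i2 k.uw, h.iso x, (h.i2 k.ux).uw, (h.i2 k.wx).uw⟩, ?_⟩
  convert M0.li h k.li using 1
  ext i
  fin_cases i <;> rfl

theorem RF.ext (h : RF B Bh ρ β γ j v) {g g' : sIsom Bh} (k : ∀ u, lin g (j u) = lin g' (j u))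
    (k' : lin g v = lin g' v) : g = g' := lin_ext fun x => by
  obtain ⟨u, w, c, rfl⟩ := h.span x
  simp only [map_add, map_smul, k, k']

theorem RF.exists_map (h : RF B Bh ρ β γ j v) {A : Type*} [AddCommGroup A] (f₁ f₂ : M →+ A)
    (f₃ : K →+ A) (hv : v = 0 → ∀ k, f₃ k = 0) :
    ∃ f : N →+ A, ∀ u w k, f (j u + γ • j w + k • v) = f₁ u + f₂ w + f₃ k := by
  choose a b c e using h.span
  have key : ∀ u w k, f₁ (a (j u + γ • j w + k • v)) + f₂ (b (j u + γ • j w + k • v)) +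
      f₃ (c (j u + γ • j w + k • v)) = f₁ u + f₂ w + f₃ k := fun u w k => by
    obtain ⟨e1, e2, e3⟩ := h.inj (e (j u + γ • j w + k • v))
    rw [← e1, ← e2]
    by_cases v0 : v = 0
    · rw [hv v0, hv v0]
    · rw [← smul_left_injective K v0 e3]
  refine ⟨AddMonoidHom.mk' (fun x => f₁ (a x) + f₂ (b x) + f₃ (c x)) fun x y => ?_, key⟩
  have : x + y = j (a x + a y) + γ • j (b x + b y) + (c x + c y) • v := by
    conv_lhs => rw [e x, e y]
    simp only [map_add]
    module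
  rw [this, key]
  simp only [map_add]
  abel

theorem M0.rank (h : RF B Bh ρ β γ j v) {n : ℕ}
    (e : Nat.card N = Nat.card M * Nat.card M * Nat.card K ^ n) :
    finrank K N = 2 * kk F M + n := by
  rw [Module.natCard_eq_pow_finrank (K := K), Module.natCard_eq_pow_finrank (K := F) (V := M),
    ← mul_pow, ← pow_two, ← h.toQE.card, ← pow_add, h.sp.rank_eq] at e
  exact Nat.pow_right_injective Finite.one_lt_card e

theorem RF.rank0 (h : RF B Bh ρ β γ j v) (e : v = 0) : finrank K N = 2 * kk F M := by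
  subst e
  refine M0.rank h (n := 0) ?_
  rw [pow_zero, mul_one, ← Nat.card_prod]
  exact (Nat.card_eq_of_bijective (fun p : M × M => j p.1 + γ • j p.2)
    ⟨fun p q e => Prod.ext (h.inj2 e).1 (h.inj2 e).2, fun x =>
      let ⟨a, b, e⟩ := h.co0 x; ⟨(a, b), e.symm⟩⟩).symm

theorem RF.rank1 (h : RF B Bh ρ β γ j v) (e : v ≠ 0) : finrank K N = 2 * kk F M + 1 := by
  refine M0.rank h ?_
  rw [pow_one, ← Nat.card_prod, ← Nat.card_prod]
  exact (Nat.card_eq_of_bijective (fun p : (M × M) × K => j p.1.1 + γ • j p.1.2 + p.2 • v)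
    ⟨fun p q k => Prod.ext (Prod.ext (h.inj k).1 (h.inj k).2.1)
      (smul_left_injective K e (h.inj k).2.2), fun x =>
      let ⟨a, b, c, e⟩ := h.span x; ⟨((a, b), c), e.symm⟩⟩).symm

end Cfsg.Lib.SPU
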