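import Cfsg.Agent.SPU.M0
import Cfsg.Agent.UM.K1
import Mathlib.Algebra.QuadraticAlgebra.Basic

/-!
# Unitary overgroups of `Sp_{2k}(2ⁿ)`: existence of the models
-/

set_option autoImplicit false
set_option linter.unusedSectionVars false
set_option linter.unusedVariables false

namespace Cfsg.Lib.SPU

open Subgroup Module Cfsg.Lib.Trans Cfsg.Lib.Gold Cfsg.Lib.Class.Form Cfsg.Lib.Class.FAut
open Cfsg.Lib.UM (tT tE I2 I3 Fx Semi Mp Ot sg kk qn)
open Cfsg.Lib.SPN (P2 P3 O3 G1 G2 T1 T3)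
open scoped commutatorElement

universe v

variable {G : Type*} {F M : Type v} [Group G] [Finite G] [Field F] [Finite F] [AddCommGroup M]
  [Module F M] [FiniteDimensional F M] {B : M →ₗ[F] M →ₗ[F] F} {β : F} {φ : sIsom B →* G} {t : G}
  {H : M → M → G}

theorem ex_QE (h2 : (2 : F) = 0) (hβ : ∀ c : F, c * c + c ≠ β) :
    ∃ (K : Type v) (_ : Field K) (_ : Finite K) (σ : K →+* K) (ρ : F →+* K) (γ : K), QE ρ σ β γ := by
  have : Fact (∀ r : F, r ^ 2 ≠ β + 1 * r) := ⟨fun r e => hβ r (by linear_combination e + r * h2)⟩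
  refine ⟨QuadraticAlgebra F β 1, inferInstance,
    Finite.of_equiv _ (QuadraticAlgebra.equivProd β 1).symm, starRingEnd _, algebraMap _ _, ⟨0, 1⟩,
    ?_, ?_, fun a => ?_, fun k => ⟨k.re, k.im, ?_⟩⟩ <;> ext <;>
    simp [starRingEnd_apply, QuadraticAlgebra.re_one, QuadraticAlgebra.im_one]
  · linear_combination h2
  · linear_combination -h2

theorem ex_RF (m : SPN.Mo B) {K : Type v} [Field K] [Finite K] {σ : K →+* K} {ρ : F →+* K} {γ : K}
    (h : QE ρ σ β γ) : ∃ (N : Type v) (_ : AddCommGroup N) (_ : Module K N)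
      (_ : FiniteDimensional K N) (Bh : N →ₛₗ[σ] N →ₗ[K] K) (j : M →+ N), RF B Bh ρ β γ j 0 := by
  let b := Module.finBasis F M
  let j : M →+ Fin (finrank F M) → K :=
    AddMonoidHom.mk' (fun u i => ρ (b.equivFun u i)) fun _ _ => funext fun _ => by simp
  let Bh := Matrix.toLinearMapₛₗ₂' K σ (RingHom.id K) (Matrix.of fun i k => ρ (B (b i) (b k)))
  have h1 : ∀ u w, Bh (j u) (j w) = ρ (B u w) := fun u w => by
    conv_rhs => rw [← b.sum_equivFun u, ← b.sum_equivFun w]
    simp only [Bh, j, Matrix.toLinearMapₛₗ₂'_apply, AddMonoidHom.mk'_apply, h.sρ, map_sum,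
      LinearMap.sum_apply, map_smul, LinearMap.smul_apply, smul_eq_mul, map_mul, RingHom.id_apply,
      Matrix.of_apply, Finset.mul_sum]
    rw [Finset.sum_comm]
    exact Finset.sum_congr rfl fun _ _ => Finset.sum_congr rfl fun _ _ => mul_left_comm ..
  have h2 : ∀ x, ∃ u w, x = j u + γ • j w := fun x => by
    choose p q e using fun i => h.co (x i)
    exact ⟨b.equivFun.symm p, b.equivFun.symm q, funext fun i => by
      simpa only [j, AddMonoidHom.mk'_apply, Pi.add_apply, Pi.smul_apply, smul_eq_mul,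
        LinearEquiv.apply_symm_apply] using e i⟩
  refine ⟨_, inferInstance, inferInstance, inferInstance, Bh, j, h, ⟨herm_of_isSymm (fun e => ?_)
    h.ss ⟨fun x y => ?_⟩ fun x hx => ?_, h.two, by simpa using m.six, fun e => ?_⟩, m,
    fun a u => funext fun i => by simp [j], h1, by simp, Or.inl rfl, fun x => by simpa using h2 x⟩
  · simpa [e] using h.sγ
  · obtain ⟨u, w, rfl⟩ := h2 x
    obtain ⟨u', w', rfl⟩ := h2 y
    simp only [map_add, map_smulₛₗ, LinearMap.add_apply, LinearMap.smul_apply, smul_eq_mul,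
      RingHom.id_apply, map_mul, h1, h.sρ, h.ss, m.symm u', m.symm w']
    ring
  · obtain ⟨u, w, rfl⟩ := h2 x
    have k : ∀ z, B u z + B w z = 0 ∧ B w z = 0 := fun z => h.inj (by
      have := hx (j z)
      simp only [map_add, map_smulₛₗ, LinearMap.add_apply, LinearMap.smul_apply, smul_eq_mul, h1,
        h.sγ, map_zero] at this ⊢
      linear_combination this)
    rw [m.cls.sep w fun z => (k z).2, m.cls.sep u fun z => by simpa [(k z).2] using (k z).1]
    simp
  · obtain ⟨a, a0, a1⟩ := m.ex (by simpa using e)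
    exact ⟨ρ a, h.sρ a, by simpa, fun e => a1 (ρ.injective (e.trans (map_one ρ).symm))⟩

theorem ex_PL {σ : F →+* F} {Bh : M →ₛₗ[σ] M →ₗ[F] F} (m : UM.Mo Bh) :
    ∃ (N' : Type v) (_ : AddCommGroup N') (_ : Module F N') (_ : FiniteDimensional F N')
      (Bh' : N' →ₛₗ[σ] N' →ₗ[F] F) (ι' : sIsom Bh →* sIsom Bh') (i : M →ₗ[F] N') (v' : N'),
      PL ι' i v' := by
  let C : M × F →ₛₗ[σ] M × F →ₗ[F] F := LinearMap.mk₂'ₛₗ σ (RingHom.id F)
    (fun x y => Bh x.1 y.1 + σ x.2 * y.2) (fun _ _ _ => by simp; ring) (fun _ _ _ => by simp; ring)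
    (fun _ _ _ => by simp; ring) fun _ _ _ => by simp; ring
  have hC : ∀ x y, C x y = Bh x.1 y.1 + σ x.2 * y.2 := fun _ _ => rfl
  have h6 := m.six
  have hr : finrank F (M × F) = finrank F M + 1 := by simp
  have m' : UM.Mo C := ⟨herm_of_isSymm m.ne_id m.ss
    ⟨fun x y => by rw [hC, hC, map_add, map_mul, m.ss, m.toHerm.conj, mul_comm]⟩ fun x hx =>
      Prod.ext (m.sep _ fun y => by simpa [hC] using hx (y, 0)) (by simpa [hC] using hx (0, 1)),
    m.two, by omega, fun e => by omega⟩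
  let S : Subgroup (sIsom Bh) :=
    { carrier := {g | ∃ s : sIsom C, (∀ u, lin s (u, 0) = (lin g u, 0)) ∧ lin s (0, 1) = (0, 1)}
      one_mem' := ⟨1, fun _ => rfl, rfl⟩
      mul_mem' := fun ⟨s, a, b⟩ ⟨s', a', b'⟩ =>
        ⟨s * s', fun u => by rw [lin_mul, a', a, lin_mul], by rw [lin_mul, b', b]⟩
      inv_mem' := fun {g} ⟨s, a, b⟩ => ⟨s⁻¹, fun u => by
        rw [← lin_inv_lin s (lin g⁻¹ u, 0), a, lin_lin_inv], by
        conv_lhs => rw [← b, lin_inv_lin]⟩ }
  have k : S = ⊤ := m.gen_T fun u hu => by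
    have := m'.lin_tT (u := (u, 0)) (by simp [hC, hu]) (map_one σ)
    exact ⟨tT C (u, 0) 1, fun z => by simp [this, hC, m.lin_tT hu (map_one σ)], by simp [this, hC]⟩
  choose s a b using fun g => (k.ge (mem_top g) : g ∈ S)
  have sp : ∀ y : M × F, y = (y.1, 0) + y.2 • (0, 1) := fun y => by simp
  exact ⟨_, inferInstance, inferInstance, inferInstance, C, MonoidHom.mk' s fun g g' =>
    lin_ext fun y => by rw [sp y]; simp only [map_add, map_smul, lin_mul, a, b],
    LinearMap.inl F M F, (0, 1), m, m', by simp [hC], by simp [hC], by simp [hC],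
    fun y => ⟨y.1, y.2, sp y⟩, a, b⟩

end Cfsg.Lib.SPU
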